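import Mathlib
import Cfsg.Prelude.Def_CaseTheorems
import Cfsg.Agent.Lib.SolvStruct.MinNormal

/-! Element configurations which exist in every non-solvable group: definitions and the reduction
to minimal simple groups. -/

set_option autoImplicit false

namespace CfsgLib.MinC

open Subgroup Cfsg
open scoped commutatorElement

universe u

variable {G H : Type*} [Group G] [Group H]

/-- three non-identity elements of pairwise coprime orders with product one -/
def Tri (G : Type*) [Group G] : Prop :=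
  ∃ a b c : G, a ≠ 1 ∧ b ≠ 1 ∧ c ≠ 1 ∧ (orderOf a).Coprime (orderOf b) ∧
    (orderOf b).Coprime (orderOf c) ∧ (orderOf a).Coprime (orderOf c) ∧ a * b * c = 1

/-- `⟨x, x ^ y⟩` is not solvable -/
def Gen (G : Type*) [Group G] : Prop :=
  ∃ x y : G, (∃ p k : ℕ, p.Prime ∧ p ≠ 2 ∧ orderOf x = p ^ k) ∧ (∃ k : ℕ, orderOf y = 2 ^ k) ∧
    ¬ Group.IsSolvable (closure ({x, y * x * y⁻¹} : Set G))

/-- `⟨x, y⟩` is solvable, `⟨x, y ^ g⟩` is not -/
def Cnj (G : Type*) [Group G] : Prop :=
  ∃ (p q : ℕ) (x y g : G), p.Prime ∧ q.Prime ∧ p ≠ q ∧ (∃ k : ℕ, orderOf x = p ^ k) ∧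
    (∃ k : ℕ, orderOf y = q ^ k) ∧ Group.IsSolvable (closure ({x, y} : Set G)) ∧
    ¬ Group.IsSolvable (closure ({x, g * y * g⁻¹} : Set G))

/-- one step of the Bray-Wilson-Wilson sequence -/
def step (y s : G) : G := (y⁻¹ * s * y) * (s⁻¹) * (y⁻¹ * s * y)⁻¹ * (s⁻¹)⁻¹

/-- the Bray-Wilson-Wilson sequence -/
def seq (x y : G) (n : ℕ) : G := @Nat.rec (fun _ => G) x (fun _ s => step y s) n

/-- the sequence does not reach `1` -/
def Bww (G : Type*) [Group G] : Prop := ∃ x y : G, ∀ n, seq x y n ≠ 1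

/-- all four configurations -/
structure Bad (G : Type*) [Group G] : Prop where
  tri : Tri G
  gen : Gen G
  cnj : Cnj G
  bww : Bww G

theorem map_step (f : G →* H) (y s : G) : f (step y s) = step (f y) (f s) := by simp [step]

theorem map_seq (f : G →* H) (x y : G) (n : ℕ) : f (seq x y n) = seq (f x) (f y) n := by
  induction n with
  | zero => rfl
  | succ n ih => exact (map_step f y _).trans (congrArg _ ih)

theorem bww_of_invariant (y : G) (R : G → Prop) (h1 : ¬ R 1) (hR : ∀ s, R s → R (step y s))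
    {x : G} (hx : R x) : Bww G :=
  ⟨x, y, fun n e => h1 (e ▸ (by
    induction n with
    | zero => exact hx
    | succ n ih => exact hR _ (by
        clear e ih
        induction n with
        | zero => exact hx
        | succ n ih => exact hR _ ih) : R (seq x y n)))⟩

theorem seq_mem (x y : G) (n : ℕ) : seq x y n ∈ derivedSeries G n := by
  induction n with
  | zero => exact mem_top x
  | succ n ih =>
    exact commutator_mem_commutator ((derivedSeries_normal G n).conj_mem' _ ih y) (inv_mem ih)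

theorem map_pair (f : G →* H) (x y : G) :
    (closure ({x, y} : Set G)).map f = closure ({f x, f y} : Set H) := by
  rw [MonoidHom.map_closure, Set.image_pair]

theorem solvable_map (f : G →* H) {x y : G} (h : Group.IsSolvable (closure ({x, y} : Set G))) :
    Group.IsSolvable (closure ({f x, f y} : Set H)) :=
  map_pair f x y ▸ Group.isSolvable_of_surjective (f.subgroupMap_surjective _)

theorem solvable_of_map (f : G →* H) (hf : Group.IsSolvable f.ker) {x y : G}
    (h : Group.IsSolvable (closure ({f x, f y} : Set H))) :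
    Group.IsSolvable (closure ({x, y} : Set G)) := by
  rw [← map_pair] at h
  have : Group.IsSolvable (f.subgroupMap (closure {x, y})).ker :=
    Group.isSolvable_of_isSolvable_injective (G' := f.ker)
      (f := ((closure {x, y}).subtype.comp (f.subgroupMap _).ker.subtype).codRestrict _
        fun z => congrArg Subtype.val z.2)
      fun a b e => Subtype.ext (Subtype.ext (congrArg (fun z : f.ker => (z : G)) e))
  exact Group.isSolvable_of_ker_le_range (f.subgroupMap _).ker.subtype (f.subgroupMap _) (by simp)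

theorem Bad.of_injective (f : G →* H) (hf : Function.Injective f) (h : Bad G) : Bad H := by
  have hk : Group.IsSolvable f.ker := by rw [f.ker_eq_bot hf]; infer_instance
  have ho := orderOf_injective f hf
  have h1 : ∀ {a : G}, a ≠ 1 → f a ≠ 1 := fun ha e => ha (hf (e.trans f.map_one.symm))
  obtain ⟨⟨a, b, c, ha, hb, hc, h2, h3, h4, e⟩, ⟨x, y, hx, hy, hn⟩,
    ⟨p, q, z, w, g, hp, hq, hpq, hz, hw, hs, hn'⟩, ⟨u, v, hu⟩⟩ := h
  refine ⟨⟨f a, f b, f c, h1 ha, h1 hb, h1 hc, by rwa [ho, ho], by rwa [ho, ho], by rwa [ho, ho],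
    by rw [← map_mul, ← map_mul, e, map_one]⟩, ⟨f x, f y, by rwa [ho], by rwa [ho], fun e => hn
      (solvable_of_map f hk (by rwa [map_mul, map_mul, map_inv]))⟩, ⟨p, q, f z, f w, f g, hp, hq, hpq, by rwa [ho],
      by rwa [ho], solvable_map f hs,
      fun e => hn' (solvable_of_map f hk (by rwa [map_mul, map_mul, map_inv]))⟩,
    f u, f v, fun n => map_seq f u v n ▸ h1 (hu n)⟩

/-- A preimage whose order has the same prime divisors. -/
theorem exists_lift [Finite G] (f : G →* H) (x : G) :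
    ∃ x' : G, f x' = f x ∧ ∀ r : ℕ, r.Prime → r ∣ orderOf x' → r ∣ orderOf (f x) := by
  induction hn : orderOf x using Nat.strong_induction_on generalizing x with
  | _ n ih =>
    by_cases h : ∀ r : ℕ, r.Prime → r ∣ orderOf x → r ∣ orderOf (f x)
    · exact ⟨x, rfl, h⟩
    push Not at h
    obtain ⟨r, hr, ⟨m, hm⟩, h2⟩ := h
    obtain ⟨k, hk⟩ := exists_pow_eq_self_of_coprime (x := f x) (n := r)
      ((Nat.Prime.coprime_iff_not_dvd hr).2 h2)
    have h0 := orderOf_pos x
    have h3 : orderOf ((x ^ r) ^ k) < n := by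
      refine lt_of_le_of_lt (Nat.le_of_dvd (Nat.pos_of_mul_pos_left (hm ▸ h0))
        (orderOf_dvd_of_pow_eq_one (by
          rw [← pow_mul, mul_comm k, pow_mul, ← pow_mul x, ← hm, pow_orderOf_eq_one, one_pow]))) ?_
      rw [← hn, hm]
      exact lt_mul_of_one_lt_left (Nat.pos_of_mul_pos_left (hm ▸ h0)) hr.one_lt
    have e : f ((x ^ r) ^ k) = f x := by rw [map_pow, map_pow, hk]
    exact e ▸ ih _ h3 _ rfl

theorem exists_lift_pow [Finite G] (f : G →* H) (hf : Function.Surjective f) {y : H} {p k : ℕ}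
    (hp : p.Prime) (hy : orderOf y = p ^ k) : ∃ x, f x = y ∧ ∃ j, orderOf x = p ^ j := by
  obtain ⟨x, rfl⟩ := hf y
  obtain ⟨x', e, h⟩ := exists_lift f x
  exact ⟨x', e, _, Nat.eq_prime_pow_of_unique_prime_dvd (orderOf_pos x').ne' fun hr hd =>
    (Nat.prime_dvd_prime_iff_eq hr hp).1 (hr.dvd_of_dvd_pow (hy ▸ h _ hr hd))⟩

theorem Tri.of_surjective [Finite G] (f : G →* H) (hf : Function.Surjective f) {s : ℕ}
    (hs : s.Prime) (hk : IsPGroup s f.ker) (h : Tri H) : Tri G := by
  have key : ∀ a b c : H, a ≠ 1 → b ≠ 1 → c ≠ 1 → (orderOf a).Coprime (orderOf b) →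
      (orderOf b).Coprime (orderOf c) → (orderOf a).Coprime (orderOf c) → a * b * c = 1 →
      ¬ s ∣ orderOf b → ¬ s ∣ orderOf c → Tri G := fun a b c ha hb hc h1 h2 h3 e h4 h5 => by
    obtain ⟨b, rfl⟩ := hf b
    obtain ⟨c, rfl⟩ := hf c
    obtain ⟨b', eb, hb'⟩ := exists_lift f b
    obtain ⟨c', ec, hc'⟩ := exists_lift f c
    have ea : f (b' * c')⁻¹ = a := by
      rw [map_inv, map_mul, eb, ec, inv_eq_iff_mul_eq_one, ← mul_left_inj (f b * f c), one_mul,
        mul_assoc, mul_assoc, ← mul_assoc a, e]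
      simp
    have ha' : ∀ r : ℕ, r.Prime → r ∣ orderOf (b' * c')⁻¹ → r ∣ orderOf a ∨ r = s := fun r hr hd => by
      obtain ⟨k, hk⟩ := hk ⟨(b' * c')⁻¹ ^ orderOf a, by
        rw [MonoidHom.mem_ker, map_pow, ea, pow_orderOf_eq_one]⟩
      have h6 : ((b' * c')⁻¹ ^ orderOf a) ^ s ^ k = 1 := congrArg Subtype.val hk
      rw [← pow_mul] at h6
      exact ((Nat.Prime.dvd_mul hr).1 (hd.trans (orderOf_dvd_of_pow_eq_one h6))).imp_right
        fun h7 => (Nat.prime_dvd_prime_iff_eq hr hs).1 (hr.dvd_of_dvd_pow h7)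
    have hco : ∀ {m n r : ℕ}, m.Coprime n → r.Prime → r ∣ m → ¬ r ∣ n := fun h hr h1 h2 =>
      hr.one_lt.ne' (Nat.eq_one_of_dvd_coprimes h h1 h2)
    refine ⟨(b' * c')⁻¹, b', c', fun e => ha (by rw [← ea, e, map_one]),
      fun e => hb (by rw [← eb, e, map_one]), fun e => hc (by rw [← ec, e, map_one]),
      Nat.coprime_of_dvd fun r hr h6 h7 => ?_,
      Nat.coprime_of_dvd fun r hr h6 h7 => hco h2 hr (hb' r hr h6) (hc' r hr h7),
      Nat.coprime_of_dvd fun r hr h6 h7 => ?_, by group⟩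
    · rcases ha' r hr h6 with h8 | rfl
      exacts [hco h1 hr h8 (hb' r hr h7), h4 (hb' r hr h7)]
    · rcases ha' r hr h6 with h8 | rfl
      exacts [hco h3 hr h8 (hc' r hr h7), h5 (hc' r hr h7)]
  obtain ⟨a, b, c, ha, hb, hc, h1, h2, h3, e⟩ := h
  have e2 : b * c * a = 1 := by rw [mul_assoc] at e; exact mul_eq_one_comm.1 e
  have e3 : c * a * b = 1 := by rw [mul_assoc] at e2; exact mul_eq_one_comm.1 e2
  have hco : ∀ {m n : ℕ}, m.Coprime n → s ∣ m → ¬ s ∣ n := fun h h1 h2 =>
    hs.one_lt.ne' (Nat.eq_one_of_dvd_coprimes h h1 h2)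
  by_cases h4 : s ∣ orderOf b
  · exact key b c a hb hc ha h2 h3.symm h1.symm e2 (hco h2 h4) (hco h1.symm h4)
  by_cases h5 : s ∣ orderOf c
  · exact key c a b hc ha hb h3.symm h1 h2.symm e3 (hco h3.symm h5) h4
  · exact key a b c ha hb hc h1 h2 h3 e h4 h5

theorem Bad.of_surjective [Finite G] (f : G →* H) (hf : Function.Surjective f) {s : ℕ}
    (hs : s.Prime) (hk : IsPGroup s f.ker) (h : Bad H) : Bad G := by
  have := Fact.mk hs
  have hk' : Group.IsSolvable f.ker := have := hk.isNilpotent; inferInstance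
  obtain ⟨h1, ⟨x, y, ⟨r, i, hr, hr2, hx⟩, ⟨j, hy⟩, hn⟩,
    ⟨p, q, z, w, g, hp, hq, hpq, ⟨k, hz⟩, ⟨l, hw⟩, hs', hn'⟩, ⟨u, v, hu⟩⟩ := h
  obtain ⟨x, rfl, i', hx'⟩ := exists_lift_pow f hf hr hx
  obtain ⟨y, rfl, hy'⟩ := exists_lift_pow f hf Nat.prime_two hy
  obtain ⟨z, rfl, hz'⟩ := exists_lift_pow f hf hp hz
  obtain ⟨w, rfl, hw'⟩ := exists_lift_pow f hf hq hw
  obtain ⟨g, rfl⟩ := hf g
  obtain ⟨u, rfl⟩ := hf u
  obtain ⟨v, rfl⟩ := hf v
  exact ⟨h1.of_surjective f hf hs hk, ⟨x, y, ⟨r, i', hr, hr2, hx'⟩, hy', fun e => hn (by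
      have := solvable_map f e; rwa [map_mul, map_mul, map_inv] at this)⟩, ⟨p, q, z, w, g, hp, hq, hpq, hz', hw',
      solvable_of_map f hk' hs', fun e => hn' (by
      have := solvable_map f e; rwa [map_mul, map_mul, map_inv] at this)⟩,
    u, v, fun n e => hu n (by rw [← map_seq, e, map_one])⟩

/-- Reduction to minimal simple groups. -/
theorem induct {P : ∀ (G : Type u) [Group G], Prop}
    (hmin : ∀ (G : Type u) [Group G] [Finite G], IsMinimalSimple G → P G)
    (hsub : ∀ (G : Type u) [Group G] [Finite G] (K : Subgroup G), P K → P G)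
    (hquo : ∀ (G : Type u) [Group G] [Finite G] (N : Subgroup G) [N.Normal] (s : ℕ), s.Prime →
      IsPGroup s N → P (G ⧸ N) → P G)
    (G : Type u) [Group G] [Finite G] (hG : ¬ Group.IsSolvable G) : P G := by
  induction hn : Nat.card G using Nat.strong_induction_on generalizing G with
  | _ n ih =>
    by_cases h1 : ∀ K : Subgroup G, K ≠ ⊤ → Group.IsSolvable K
    swap
    · push Not at h1
      obtain ⟨K, hK, h2⟩ := h1
      exact hsub G K (ih _ (hn ▸ lt_of_le_of_ne (card_le_card_group K)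
        fun e => hK (eq_top_of_card_eq K e)) K h2 rfl)
    by_cases h2 : ∃ N : Subgroup G, N.Normal ∧ N ≠ ⊥ ∧ N ≠ ⊤
    · obtain ⟨N, ⟨hN, h3, h4⟩, hm⟩ := WellFoundedLT.exists_minimal (α := Subgroup G) inferInstance
        {N | N.Normal ∧ N ≠ ⊥ ∧ N ≠ ⊤} h2
      have := h1 N h4
      obtain ⟨s, hs, h5, -⟩ := SolvStruct.minimal_normal_exists_pgroup_of_solvable h3
        fun K hK hle => or_iff_not_imp_left.2 fun h6 =>
          le_antisymm hle (hm ⟨hK, h6, fun e => h4 (top_le_iff.1 (e ▸ hle))⟩ hle)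
      refine hquo G N s hs h5 (ih _ ?_ _ (fun e => hG
        ((Group.isSolvable_iff_subgroup_quotient N).2 ⟨this, e⟩)) rfl)
      rw [← hn, card_eq_card_quotient_mul_card_subgroup N]
      exact lt_mul_of_one_lt_right Nat.card_pos ((one_lt_card_iff_ne_bot N).2 h3)
    · have : Nontrivial G := not_subsingleton_iff_nontrivial.1 fun _ => hG inferInstance
      exact hmin G ⟨⟨fun N hN => by_contra fun e => h2 ⟨N, hN, not_or.1 e⟩⟩,
        fun e => hG (Group.isSolvable_of_comm e.is_comm.comm), h1⟩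

theorem bad_of_min (hmin : ∀ (G : Type u) [Group G] [Finite G], IsMinimalSimple G → Bad G)
    (G : Type u) [Group G] [Finite G] (hG : ¬ Group.IsSolvable G) : Bad G :=
  induct (P := fun G _ => Bad G) hmin (fun _ _ _ K h => h.of_injective K.subtype K.subtype_injective)
    (fun _ _ _ N _ _ hs hN h => h.of_surjective (QuotientGroup.mk' N)
      (QuotientGroup.mk'_surjective N) hs (by rwa [QuotientGroup.ker_mk'])) G hG

/-! ### triples generate non-solvable subgroups -/

theorem mem_commutator_of_tri {a b c : G} (h1 : (orderOf a).Coprime (orderOf b))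
    (h3 : (orderOf a).Coprime (orderOf c)) (e : a * b * c = 1) : a ∈ commutator G := by
  let φ : G →* Abelianization G := Abelianization.of
  rw [← Abelianization.ker_of, MonoidHom.mem_ker, ← orderOf_eq_one_iff]
  refine Nat.eq_one_of_dvd_coprimes (h1.mul_right h3) (orderOf_map_dvd φ a)
    (orderOf_dvd_of_pow_eq_one ?_)
  have : φ a = (φ b * φ c)⁻¹ := by
    rw [eq_inv_iff_mul_eq_one, ← mul_assoc, ← map_mul, ← map_mul, e, map_one]
  rw [this, inv_pow, mul_pow, pow_mul, mul_comm (orderOf b), pow_mul, ← map_pow φ b, ← map_pow φ c,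
    pow_orderOf_eq_one, pow_orderOf_eq_one]
  simp

theorem not_solvable_of_tri {a b c : G} (ha : a ≠ 1) (h1 : (orderOf a).Coprime (orderOf b))
    (h2 : (orderOf b).Coprime (orderOf c)) (h3 : (orderOf a).Coprime (orderOf c))
    (e : a * b * c = 1) : ¬ Group.IsSolvable G := by
  have key : ∀ n, a ∈ derivedSeries G n ∧ b ∈ derivedSeries G n := fun n => by
    induction n with
    | zero => exact ⟨mem_top a, mem_top b⟩
    | succ n ih =>
      have hc : c ∈ derivedSeries G n := by
        rw [eq_inv_of_mul_eq_one_right e]; exact inv_mem (mul_mem ih.1 ih.2)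
      rw [derivedSeries_succ, ← map_subtype_commutator]
      have e1 : (⟨a, ih.1⟩ * ⟨b, ih.2⟩ * ⟨c, hc⟩ : derivedSeries G n) = 1 := Subtype.ext e
      have e2 : (⟨b, ih.2⟩ * ⟨c, hc⟩ * ⟨a, ih.1⟩ : derivedSeries G n) = 1 := by
        rw [mul_assoc] at e1; exact mul_eq_one_comm.1 e1
      exact ⟨mem_map_of_mem _ (mem_commutator_of_tri (by simpa using h1) (by simpa using h3) e1),
        mem_map_of_mem _ (mem_commutator_of_tri (by simpa using h2) (by simpa using h1.symm) e2)⟩
  exact not_isSolvable_of_mem_derivedSeries ha fun n => (key n).1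

theorem Tri.not_solvable (h : Tri G) : ¬ Group.IsSolvable G := by
  obtain ⟨a, b, c, ha, -, -, h1, h2, h3, e⟩ := h
  exact not_solvable_of_tri ha h1 h2 h3 e

theorem not_solvable_pair {a b : G} (ha : a ≠ 1) (h1 : (orderOf a).Coprime (orderOf b))
    (h2 : (orderOf b).Coprime (orderOf (a * b))) (h3 : (orderOf a).Coprime (orderOf (a * b))) :
    ¬ Group.IsSolvable (closure ({a, b} : Set G)) := by
  have h4 : a ∈ closure ({a, b} : Set G) := subset_closure (by simp)
  have h5 : b ∈ closure ({a, b} : Set G) := subset_closure (by simp)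
  exact not_solvable_of_tri (a := ⟨a, h4⟩) (b := ⟨b, h5⟩) (c := (⟨a, h4⟩ * ⟨b, h5⟩)⁻¹)
    (fun e => ha (congrArg Subtype.val e)) (by simpa using h1) (by simpa using h2)
    (by simpa using h3) (mul_inv_cancel _)

/-- `⟨x, y⟩` is solvable if `y` normalizes a solvable subgroup containing `x`. -/
theorem solvable_of_norm {x y : G} {A : Subgroup G} (hA : Group.IsSolvable A) (hx : x ∈ A)
    (hy : y ∈ normalizer (A : Set G)) : Group.IsSolvable (closure ({x, y} : Set G)) := by
  have := normal_in_normalizer (H := A)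
  let π := QuotientGroup.mk' (A.subgroupOf (normalizer (A : Set G)))
  have h2 : Group.IsSolvable π.ker := by
    rw [QuotientGroup.ker_mk']
    exact Group.isSolvable_of_surjective (f := (subgroupOfEquivOfLe le_normalizer).symm.toMonoidHom)
      (MulEquiv.surjective _)
  have h3 := solvable_of_map π h2 (x := ⟨x, le_normalizer hx⟩) (y := ⟨y, hy⟩) (by
    rw [show π ⟨x, le_normalizer hx⟩ = 1 from (QuotientGroup.eq_one_iff _).2 hx,
      closure_insert_one, ← zpowers_eq_closure]
    exact Group.isSolvable_of_comm mul_comm')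
  have h4 := solvable_map (normalizer (A : Set G)).subtype h3
  rwa [subtype_apply, subtype_apply] at h4

theorem gen_of_involution {x y : G} {p k : ℕ} (hp : p.Prime) (h2 : p ≠ 2) (hx : orderOf x = p ^ k)
    (hy : orderOf y = 2) (h : ¬ Group.IsSolvable (closure ({x, y} : Set G))) : Gen G := by
  refine ⟨x, y, ⟨p, k, hp, h2, hx⟩, ⟨1, hy⟩, fun e => h
    (solvable_of_norm e (subset_closure (by simp)) ?_)⟩
  have hyy : y * y = 1 := by rw [← pow_two, ← hy, pow_orderOf_eq_one]
  have key : ∀ g ∈ closure ({x, y * x * y⁻¹} : Set G),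
      y * g * y⁻¹ ∈ closure ({x, y * x * y⁻¹} : Set G) := fun g hg => by
    have := mem_map_of_mem (MulAut.conj y).toMonoidHom hg
    rw [map_pair, Set.pair_comm] at this
    simp only [MulEquiv.toMonoidHom_eq_coe, MonoidHom.coe_coe, MulAut.conj_apply] at this
    rwa [show y * (y * x * y⁻¹) * y⁻¹ = (y * y) * x * (y * y)⁻¹ by group, hyy, one_mul, inv_one,
      mul_one] at this
  refine mem_normalizer_iff.2 fun g => ⟨key g, fun hg => ?_⟩
  have := key _ hg
  rwa [show y * (y * g * y⁻¹) * y⁻¹ = (y * y) * g * (y * y)⁻¹ by group, hyy, one_mul, inv_one,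
    mul_one] at this

/-- A triple with an involution and an element of odd prime order. -/
theorem tri_gen {x y : G} {p : ℕ} (hp : p.Prime) (h2 : p ≠ 2) (hx : orderOf x = p)
    (hy : orderOf y = 2) (h : (2 * p).Coprime (orderOf (x * y))) : Tri G ∧ Gen G := by
  have h1 : (orderOf x).Coprime (orderOf y) := by
    rw [hx, hy]; exact (Nat.coprime_primes hp Nat.prime_two).2 h2
  have h3 : (orderOf y).Coprime (orderOf (x * y)) := hy ▸ Nat.Coprime.coprime_mul_right h
  have h4 : (orderOf x).Coprime (orderOf (x * y)) := hx ▸ Nat.Coprime.coprime_mul_left h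
  have h5 : x ≠ 1 := fun e => hp.ne_one (by rw [← hx, e, orderOf_one])
  refine ⟨⟨x, y, (x * y)⁻¹, h5, fun e => by simp [e] at hy, fun e => h2 ?_, h1,
    by rwa [orderOf_inv], by rwa [orderOf_inv], mul_inv_cancel _⟩,
    gen_of_involution hp h2 (k := 1) (by rw [hx, pow_one]) hy (not_solvable_pair h5 h1 h3 h4)⟩
  rw [← hx, ← hy, eq_inv_of_mul_eq_one_left (inv_eq_one.1 e), orderOf_inv]

end CfsgLib.MinC
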