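import Mathlib
import Cfsg.Agent.Lib.MinC.Bad
import Cfsg.Agent.Lib.Dickson.Trace
import Cfsg.Agent.Lib.SL2.Torus

/-! The configurations in `PSL₂(q)`, `q ≥ 4`. -/

set_option autoImplicit false

namespace CfsgLib.MinC

open Subgroup Cfsg CfsgLib.SL2 CfsgLib.Dickson
open scoped MatrixGroups

theorem exists_prime_pow' {G : Type*} [Group G] [Finite G] {g : G} (h1 : g ≠ 1) :
    ∃ n : ℕ, (orderOf (g ^ n)).Prime := by
  obtain ⟨p, hp, m, hm⟩ := Nat.exists_prime_and_dvd (mt orderOf_eq_one_iff.1 h1)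
  have h0 : m ≠ 0 := fun e => (orderOf_pos g).ne' (by rw [hm, e, mul_zero])
  exact ⟨m, by rwa [orderOf_pow_of_dvd h0 (Dvd.intro_left p hm.symm), hm,
    Nat.mul_div_cancel _ (Nat.pos_of_ne_zero h0)]⟩

theorem orderOf_mul_comm' {G : Type*} [Group G] (a b : G) : orderOf (a * b) = orderOf (b * a) :=
  SemiconjBy.orderOf_eq b (by simp [SemiconjBy, mul_assoc])

variable {F : Type*} [Field F]

theorem mk_eq_one_iff {g : SL(2, F)} : (g : PSL(2, F)) = 1 ↔ IsScal g :=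
  psl_mk_eq_one_iff.trans (isScal_iff g).symm

theorem ord_eq_of_tr {g h : SL(2, F)} (hg : ¬ IsScal g) (hh : ¬ IsScal h) (e : tr g = tr h) :
    orderOf (g : PSL(2, F)) = orderOf (h : PSL(2, F)) :=
  orderOf_eq_orderOf_iff.2 fun n => by
    simp only [psl_mk_pow_eq_one_iff, mk_eq_one_iff, hg, hh, e]

theorem uu_pow (b : F) (n : ℕ) : uu b ^ n = uu (n * b) := by
  induction n with
  | zero => simp [uu_zero]
  | succ n ih => rw [pow_succ, ih, ← uu_add]; congr 1; push_cast; ring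

theorem ord_uu {p : ℕ} [Fact p.Prime] [CharP F p] {b : F} (hb : b ≠ 0) :
    orderOf (uu b : PSL(2, F)) = p :=
  orderOf_eq_prime (by rw [← QuotientGroup.mk_pow, uu_pow]; simp [uu_zero])
    fun e => hb (mk_eq_one_iff.1 e).1

theorem comp_not (t : F) : ¬ IsScal (comp t) := fun e => by simpa [comp] using e.2.1

theorem exists_uu {g h : SL(2, F)} (hg : ¬ IsScal g) (hh : ¬ IsScal h)
    (hne : orderOf (g : PSL(2, F)) ≠ orderOf (h : PSL(2, F))) :
    ∃ b : F, b ≠ 0 ∧ orderOf ((uu b : PSL(2, F)) * comp (tr g)) = orderOf (h : PSL(2, F)) :=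
  ⟨tr h - tr g, fun e => hne (ord_eq_of_tr hg hh (sub_eq_zero.1 e).symm), by
    rw [← QuotientGroup.mk_mul]
    exact ord_eq_of_tr (fun e => by simpa [mul_ap, comp] using e.2.1) hh
      (by simp [tr_def (uu _ * _), mul_ap, comp])⟩

theorem solvable_uu_dg (b : F) (a : Fˣ) :
    Group.IsSolvable (closure ({(uu b : PSL(2, F)), (dg a : PSL(2, F))} : Set PSL(2, F))) := by
  let φ : Multiplicative F →* PSL(2, F) := MonoidHom.mk' (fun c => (uu c.toAdd : PSL(2, F)))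
    fun c d => by rw [toAdd_mul, uu_add, QuotientGroup.mk_mul]
  have key : ∀ (a : Fˣ), ∀ g ∈ φ.range, (dg a : PSL(2, F)) * g * (dg a : PSL(2, F))⁻¹ ∈ φ.range := by
    rintro a _ ⟨c, rfl⟩
    refine ⟨Multiplicative.ofAdd (a * a * c.toAdd), ?_⟩
    change ((uu _ : SL(2, F)) : PSL(2, F)) = ((dg a * uu _ * (dg a)⁻¹ : SL(2, F)) : PSL(2, F))
    rw [← dg_inv]
    congr 1
    apply ext2 <;> simp [mul_ap]
    ring
  refine solvable_of_norm (A := φ.range) (Group.isSolvable_of_surjective φ.rangeRestrict_surjective)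
    ⟨Multiplicative.ofAdd b, rfl⟩ (mem_normalizer_iff.2 fun g => ⟨key a g, fun hg => ?_⟩)
  have := key a⁻¹ _ hg
  rw [dg_inv, QuotientGroup.mk_inv] at this
  simpa [mul_assoc] using this

theorem step_ww (u : SL(2, F)) :
    tr (step ww u) = 2 - (u 1 0 - u 0 1) ^ 2 * (4 - tr u ^ 2 - (u 1 0 - u 0 1) ^ 2) ∧
    step ww u 1 0 - step ww u 0 1 =
      tr u * (u 1 0 - u 0 1) * (4 - tr u ^ 2 - (u 1 0 - u 0 1) ^ 2) := by
  have hd := det_eq u
  simp only [step, inv_inv, tr_def, mul_ap, inv_00, inv_01, inv_10, inv_11, ww_00, ww_01, ww_10,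
    ww_11]
  constructor
  · linear_combination (2 * (u 0 0 * u 1 1 - u 0 1 * u 1 0 + 1) - 4 * (u 1 0 - u 0 1) ^ 2) * hd
  · linear_combination (4 * (u 0 0 + u 1 1) * (u 1 0 - u 0 1)) * hd

theorem bww_of_exists (u : SL(2, F)) (h1 : tr u ≠ 0) (h2 : u 1 0 - u 0 1 ≠ 0)
    (h3 : 4 - tr u ^ 2 - (u 1 0 - u 0 1) ^ 2 ≠ 0)
    (h4 : ∀ x : F, x ≠ 0 → x ^ 2 * (4 - tr u ^ 2 - (u 1 0 - u 0 1) ^ 2) ≠ 2) : Bww PSL(2, F) := by
  refine bww_of_invariant ((ww : SL(2, F)) : PSL(2, F)) (fun s => ∃ u : SL(2, F), s = u ∧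
    tr u ≠ 0 ∧ u 1 0 - u 0 1 ≠ 0 ∧ 4 - tr u ^ 2 - (u 1 0 - u 0 1) ^ 2 ≠ 0 ∧
    ∀ x : F, x ≠ 0 → x ^ 2 * (4 - tr u ^ 2 - (u 1 0 - u 0 1) ^ 2) ≠ 2) ?_ ?_ ⟨u, rfl, h1, h2, h3, h4⟩
  · rintro ⟨u, e, -, h2, -⟩
    obtain ⟨h3, h4, -⟩ := mk_eq_one_iff.1 e.symm
    exact h2 (by rw [h3, h4, sub_zero])
  · rintro _ ⟨u, rfl, h1, h2, h3, h4⟩
    obtain ⟨e1, e2⟩ := step_ww u
    generalize hρ : 4 - tr u ^ 2 - (u 1 0 - u 0 1) ^ 2 = ρ at *
    have h5 : (2 - ρ) * (u 1 0 - u 0 1) ≠ 0 :=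
      mul_ne_zero (fun e => h4 1 one_ne_zero (by linear_combination -e)) h2
    have e3 : 4 - tr (step ww u) ^ 2 - (step ww u 1 0 - step ww u 0 1) ^ 2 =
        ((2 - ρ) * (u 1 0 - u 0 1)) ^ 2 * ρ := by
      rw [e1, e2]; linear_combination (u 1 0 - u 0 1) ^ 2 * ρ ^ 2 * hρ
    refine ⟨step ww u, (map_step (QuotientGroup.mk' _) ww u).symm,
      fun e => h4 _ h2 (by linear_combination e1 - e), e2 ▸ mul_ne_zero (mul_ne_zero h1 h2) h3,
      e3 ▸ mul_ne_zero (pow_ne_zero 2 h5) h3, fun x hx e => h4 _ (mul_ne_zero hx h5) ?_⟩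
    rw [e3] at e; linear_combination e

variable [Fintype F]

theorem bww_of_odd (h : (2 : F) ≠ 0) {τ ζ : F} (h1 : τ ≠ 0) (h2 : ζ ≠ 0)
    (h3 : 4 - τ ^ 2 - ζ ^ 2 ≠ 0) (h4 : ∀ x : F, x ≠ 0 → x ^ 2 * (4 - τ ^ 2 - ζ ^ 2) ≠ 2) :
    Bww PSL(2, F) := by
  obtain ⟨X, Y, e⟩ := exists_binary_form_eq (1 : F) 0 1 (by
    rw [show (0 : F) ^ 2 - 4 * 1 * 1 = -(2 * 2) by ring]; exact neg_ne_zero.2 (mul_ne_zero h h))
    (τ ^ 2 + ζ ^ 2 - 4)
  obtain ⟨c, hc⟩ : ∃ c : F, c * 2 = 1 := ⟨2⁻¹, inv_mul_cancel₀ h⟩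
  let u : SL(2, F) := mk2 (c * (τ + X)) (c * (Y - ζ)) (c * (Y + ζ)) (c * (τ - X))
    (by linear_combination (-c ^ 2) * e + (2 * c + 1) * hc)
  have e1 : tr u = τ := by simp only [tr_def, u, mk2_00, mk2_11]; linear_combination τ * hc
  have e2 : u 1 0 - u 0 1 = ζ := by simp only [u, mk2_10, mk2_01]; linear_combination ζ * hc
  exact bww_of_exists u (e1 ▸ h1) (e2 ▸ h2) (by rwa [e1, e2]) (by rwa [e1, e2])

theorem exists_pow_ne {n : ℕ} (h0 : 0 < n) (h : n + 1 < Fintype.card F) : ∃ a : Fˣ, a ^ n ≠ 1 := by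
  by_contra! e
  have := Nat.le_of_dvd h0 ((FiniteField.forall_pow_eq_one_iff F n).1 e)
  omega

theorem bww_psl (h4 : 4 ≤ Fintype.card F) : Bww PSL(2, F) := by
  by_cases h : (2 : F) = 0
  · obtain ⟨a, ha⟩ := exists_pow_ne (F := F) (n := 2) two_pos (by omega)
    have h1 := a.mul_inv
    have e : ∀ x : F, x ≠ 0 → x ^ 2 * (4 - ((a : F) + (a⁻¹ : Fˣ)) ^ 2 - (a - 0) ^ 2) ≠ 2 :=
      fun x hx e => mul_ne_zero (pow_ne_zero 2 hx) (pow_ne_zero 2 a⁻¹.ne_zero) (by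
        linear_combination -e + (x ^ 2 * (2 - a ^ 2 - a * (a⁻¹ : Fˣ)) - 1) * h)
    refine bww_of_exists (mk2 a 0 a (a⁻¹ : Fˣ) (by simp)) (fun e => ha (Units.ext ?_))
      (by simp) (fun e' => e 1 one_ne_zero (by
        rw [h, one_pow, one_mul]; exact e')) e
    change (a : F) + (a⁻¹ : Fˣ) = 0 at e
    push_cast
    linear_combination a * e - h1 - h
  by_cases h5 : Fintype.card F = 5
  · have h6 : (5 : F) = 0 := by exact_mod_cast h5 ▸ FiniteField.cast_card_eq_zero F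
    refine bww_of_odd h one_ne_zero h (fun e => one_ne_zero (α := F) (by linear_combination -e))
      fun x hx e => one_ne_zero (α := F) ?_
    have := FiniteField.pow_card_sub_one_eq_one x hx
    rw [h5] at this
    linear_combination -2 * (2 - x ^ 2) * e + 2 * this - h6
  have ho : Fintype.card F % 2 = 1 := FiniteField.odd_card_of_char_ne_two fun e => h (by
    exact_mod_cast e ▸ ringChar.Nat.cast_ringChar (R := F))
  obtain ⟨t, ht⟩ := exists_pow_ne (F := F) (n := 4) (by norm_num) (by omega)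
  have ht' : (t : F) ^ 4 ≠ 1 := fun e => ht (Units.ext (by push_cast; exact e))
  have h7 : 1 - (t : F) ^ 2 ≠ 0 := fun e => ht' (by linear_combination (-1 - t ^ 2) * e)
  have h8 : 1 + (t : F) ^ 2 ≠ 0 := fun e => ht' (by linear_combination (t ^ 2 - 1) * e)
  obtain ⟨ν, hν, hν2⟩ : ∃ ν : F, ¬ IsSquare ν ∧ ν ≠ 2 := by
    obtain ⟨ν, hν⟩ := FiniteField.exists_nonsquare (F := F) fun e => h (by
      exact_mod_cast e ▸ ringChar.Nat.cast_ringChar (R := F))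
    by_cases e : ν = 2
    · refine ⟨ν * t ^ 2, fun ⟨r, hr⟩ => hν ⟨r / t, by field_simp; linear_combination hr⟩, fun e' =>
        mul_ne_zero h h7 (by linear_combination t ^ 2 * e - e')⟩
    · exact ⟨ν, hν, e⟩
  obtain ⟨τ, ζ, h1, h2, e⟩ : ∃ τ ζ : F, τ ≠ 0 ∧ ζ ≠ 0 ∧ τ ^ 2 + ζ ^ 2 = 4 - 2 * ν := by
    have key : ∀ x : F, x ^ 2 = 4 - 2 * ν → ∃ τ ζ : F, τ ≠ 0 ∧ ζ ≠ 0 ∧ τ ^ 2 + ζ ^ 2 = 4 - 2 * ν :=
      fun x e => by
        have hx : x ≠ 0 := fun e' => mul_ne_zero h (sub_ne_zero.2 hν2) (by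
          rw [e'] at e; linear_combination e)
        exact ⟨x * (1 - t ^ 2) / (1 + t ^ 2), x * (2 * t) / (1 + t ^ 2),
          div_ne_zero (mul_ne_zero hx h7) h8,
          div_ne_zero (mul_ne_zero hx (mul_ne_zero h t.ne_zero)) h8, by
            rw [← e]; field_simp; ring⟩
    obtain ⟨X, Y, e⟩ := exists_binary_form_eq (1 : F) 0 1 (by
      rw [show (0 : F) ^ 2 - 4 * 1 * 1 = -(2 * 2) by ring]; exact neg_ne_zero.2 (mul_ne_zero h h))
      (4 - 2 * ν)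
    by_cases hX : X = 0
    · exact key Y (by rw [hX] at e; linear_combination e)
    by_cases hY : Y = 0
    · exact key X (by rw [hY] at e; linear_combination e)
    exact ⟨X, Y, hX, hY, by linear_combination e⟩
  have e' : 4 - τ ^ 2 - ζ ^ 2 = 2 * ν := by linear_combination -e
  refine bww_of_odd h h1 h2 (e' ▸ mul_ne_zero h fun e => hν (e ▸ IsSquare.zero)) fun x hx e =>
    hν ⟨x⁻¹, mul_left_cancel₀ h ?_⟩
  rw [e'] at e
  linear_combination (x⁻¹ * x⁻¹) * e - 2 * ν * (x * x⁻¹ + 1) * mul_inv_cancel₀ hx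

/-- A split and a non-split element of prime orders. -/
theorem exists_primes (h4 : 4 ≤ Fintype.card F) : ∃ (a : Fˣ) (z : SL(2, F)) (m n : ℕ),
    (orderOf (dg a : PSL(2, F))).Prime ∧ (orderOf (z : PSL(2, F))).Prime ∧
    orderOf (dg a : PSL(2, F)) ∣ m ∧ orderOf (z : PSL(2, F)) ∣ n ∧
    (((2 : F) = 0 ∧ m + 1 = Fintype.card F ∧ n = m + 2) ∨
      ((2 : F) ≠ 0 ∧ 2 * m + 1 = Fintype.card F ∧ n = m + 1)) := by
  obtain ⟨a, ha⟩ := exists_pow_ne (F := F) (n := 2) two_pos (by omega)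
  obtain ⟨z, hz⟩ := exists_noEig (F := F)
  obtain ⟨i, hi⟩ := exists_prime_pow' (g := (dg a : PSL(2, F))) fun e =>
    ha (Units.ext (by simpa using (isScal_dg_iff a).1 (mk_eq_one_iff.1 e)))
  obtain ⟨j, hj⟩ := exists_prime_pow' (g := (z : PSL(2, F))) fun e =>
    hz.not_isScal (mk_eq_one_iff.1 e)
  rw [← QuotientGroup.mk_pow] at hi hj
  rw [← dgHom_apply, ← map_pow, dgHom_apply] at hi
  have h1 : dg (a ^ i) ^ (Fintype.card F - 1) = 1 := by
    rw [← dgHom_apply, ← map_pow, Units.ext (FiniteField.pow_card_sub_one_eq_one (a ^ i : Fˣ).1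
      (a ^ i).ne_zero |> (Units.val_pow_eq_pow_val _ _).trans : _ = ((1 : Fˣ) : F)), map_one]
  have h2 : (z ^ j) ^ (Fintype.card F + 1) = 1 := by
    rw [← hz.card_centralizer]
    exact orderOf_dvd_iff_pow_eq_one.1 (Subgroup.orderOf_dvd_natCard _
      (pow_mem (mem_centralizer_singleton_iff.2 rfl) j))
  by_cases h : (2 : F) = 0
  · exact ⟨a ^ i, z ^ j, Fintype.card F - 1, Fintype.card F + 1, hi, hj,
      orderOf_dvd_of_pow_eq_one (by rw [← QuotientGroup.mk_pow, h1]; rfl),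
      orderOf_dvd_of_pow_eq_one (by rw [← QuotientGroup.mk_pow, h2]; rfl),
      Or.inl ⟨h, by omega, by omega⟩⟩
  · have ho : Fintype.card F % 2 = 1 := FiniteField.odd_card_of_char_ne_two fun e => h (by
      exact_mod_cast e ▸ ringChar.Nat.cast_ringChar (R := F))
    have key : ∀ (g : SL(2, F)) (k : ℕ), g ^ (k + k) = 1 → orderOf (g : PSL(2, F)) ∣ k :=
      fun g k e => orderOf_dvd_of_pow_eq_one (by
        rw [← QuotientGroup.mk_pow, mk_eq_one_iff, ← sq_eq_one_iff_isScal h, ← pow_add, e])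
    exact ⟨a ^ i, z ^ j, Fintype.card F / 2, Fintype.card F / 2 + 1, hi, hj,
      key _ _ (by convert h1 using 2; omega), key _ _ (by convert h2 using 2; omega),
      Or.inr ⟨h, by omega, rfl⟩⟩

theorem bad_psl (h4 : 4 ≤ Fintype.card F) : Bad PSL(2, F) := by
  obtain ⟨a, z, m, n, ha, hz, hm, hn, h⟩ := exists_primes h4
  have hp : Fact (ringChar F).Prime := ⟨CharP.char_is_prime F _⟩
  have hq : ringChar F ∣ Fintype.card F :=
    (ringChar.spec F _).1 (FiniteField.cast_card_eq_zero F)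
  have h2 : (2 : F) = 0 ↔ ringChar F = 2 :=
    ⟨fun e => CharP.ringChar_of_prime_eq_zero Nat.prime_two (by exact_mod_cast e),
      fun e => by exact_mod_cast e ▸ ringChar.Nat.cast_ringChar (R := F)⟩
  have hs : ∀ {g : SL(2, F)}, (orderOf (g : PSL(2, F))).Prime → ¬ IsScal g := fun hg e =>
    hg.ne_one (orderOf_eq_one_iff.2 (mk_eq_one_iff.2 e))
  have hd : ∀ {r k : ℕ}, r.Prime → r ∣ k → ¬ r ∣ k + 1 := fun hr h1 h2 =>
    hr.not_dvd_one ((Nat.dvd_add_right h1).1 h2)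
  have h3 : ringChar F ≠ orderOf (dg a : PSL(2, F)) := fun e => by
    rcases h with ⟨-, h5, -⟩ | ⟨-, h5, -⟩
    exacts [hd ha hm (h5 ▸ e ▸ hq), hd ha (hm.mul_left 2) (h5 ▸ e ▸ hq)]
  have h5 : ringChar F ≠ orderOf (z : PSL(2, F)) := fun e => by
    rcases h with ⟨-, h5, rfl⟩ | ⟨-, h5, rfl⟩
    exacts [hd hz (h5 ▸ e ▸ hq) hn, hd hz (h5 ▸ e ▸ hq) (hn.mul_left 2)]
  have h6 : orderOf (dg a : PSL(2, F)) ≠ orderOf (z : PSL(2, F)) := fun e => by
    rcases h with ⟨h7, -, rfl⟩ | ⟨-, -, rfl⟩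
    · exact h3 (((Nat.prime_dvd_prime_iff_eq ha Nat.prime_two).1
        ((Nat.dvd_add_right hm).1 (e ▸ hn))).trans (h2.1 h7).symm).symm
    · exact hd ha hm (e ▸ hn)
  have hco : ∀ {r s t : ℕ}, r.Prime → s.Prime → t.Prime → r ≠ t → s ≠ t → (r * s).Coprime t :=
    fun hr hs ht h1 h2 => ((Nat.coprime_primes hr ht).2 h1).mul_left ((Nat.coprime_primes hs ht).2 h2)
  obtain ⟨b, hb, e⟩ := exists_uu (hs ha) (hs hz) h6
  have e1 := ord_eq_of_tr (comp_not _) (hs ha) (tr_comp _)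
  have e2 := ord_uu (p := ringChar F) hb
  have htg : Tri PSL(2, F) ∧ Gen PSL(2, F) := by
    by_cases h7 : ringChar F = 2
    · exact tri_gen ha (fun e => h3 (h7.trans e.symm)) e1 (e2.trans h7) (by
        rw [orderOf_mul_comm', e]; exact hco Nat.prime_two ha hz (fun e => h5 (h7.trans e)) h6)
    · have hw : orderOf (comp (0 : F) : PSL(2, F)) = 2 := orderOf_eq_prime (by
        rw [psl_mk_pow_eq_one_iff, cheb_two, tr_comp]; exact Or.inl rfl)
        fun e => comp_not _ (mk_eq_one_iff.1 e)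
      have key : ∀ g : SL(2, F), (orderOf (g : PSL(2, F))).Prime → orderOf (g : PSL(2, F)) ≠ 2 →
          ringChar F ≠ orderOf (g : PSL(2, F)) → Tri PSL(2, F) ∧ Gen PSL(2, F) := fun g h1 h8 h9 => by
        obtain ⟨c, hc, e3⟩ := exists_uu (comp_not 0) (hs h1) fun e => h8 (e.symm.trans hw)
        rw [tr_comp] at e3
        exact tri_gen hp.out h7 (ord_uu hc) hw (e3 ▸ hco Nat.prime_two hp.out h1 h8.symm h9)
      by_cases h8 : orderOf (dg a : PSL(2, F)) = 2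
      exacts [key z hz (fun e => h6 (h8.trans e.symm)) h5, key _ ha h8 h3]
  refine ⟨htg.1, htg.2, ?_, bww_psl h4⟩
  obtain ⟨g, hg⟩ := isConj_iff.1 (isConj_of_tr_eq (tr_dg_sq_ne (mt (isScal_dg_iff a).2 (hs ha)))
    (tr_comp _).symm)
  refine ⟨_, _, (uu b : SL(2, F)), (dg a : SL(2, F)), (g : SL(2, F)), hp.out, ha, h3,
    ⟨1, by rw [e2, pow_one]⟩, ⟨1, (pow_one _).symm⟩, solvable_uu_dg b a, ?_⟩
  rw [← QuotientGroup.mk_inv, ← QuotientGroup.mk_mul, ← QuotientGroup.mk_mul, hg]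
  exact not_solvable_pair (fun e3 => hb (mk_eq_one_iff.1 e3).1)
    (by rw [e1, e2]; exact (Nat.coprime_primes hp.out ha).2 h3)
    (by rw [e1, e]; exact (Nat.coprime_primes ha hz).2 h6)
    (by rw [e2, e]; exact (Nat.coprime_primes hp.out hz).2 h5)

end CfsgLib.MinC
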