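import Mathlib
import Cfsg.Agent.Lib.MinC.L2
import Cfsg.Agent.Lib.Sz.Solvable
import Cfsg.Agent.Lib.Sz.Models
import Cfsg.Agent.Lib.Classical.SmallIso

/-! The configurations in the Suzuki groups and in `PSL₃(3)`. -/

set_option autoImplicit false

namespace CfsgLib.MinC

open Subgroup Cfsg CfsgLib.Sz CfsgLib.Sz.Tits
open scoped MatrixGroups

theorem step_inv {G : Type*} [Group G] {y g n : G} (hy : y * y = 1) (hg : g * g = 1)
    (hn : n * n = 1) (hc : y * g = g * y) :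
    step y (g * n) = y * g * (n * y * n⁻¹ * (y * g) * (n * y * n⁻¹)⁻¹) := by
  have e1 := inv_eq_of_mul_eq_one_right hy
  have e2 := inv_eq_of_mul_eq_one_right hg
  have e3 := inv_eq_of_mul_eq_one_right hn
  simp only [step, mul_inv_rev, e1, e2, e3]
  calc _ = y * g * n * y * n * (g * y) * n * (g * y * g) * n := by group
    _ = _ := by rw [mul_assoc g y g, hc, ← mul_assoc g g, hg, one_mul]; group

variable {F : Type*} [Field F] [Finite F] {τ : Tits F}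

theorem bww_sz (ht : ∃ t : F, t ≠ 0 ∧ t ≠ 1) : Bww τ.grp := by
  obtain ⟨t, h0, h1⟩ := ht
  have hy := τ.S_mem_Z 1
  refine bww_of_invariant (τ.S 0 1) (fun u => ∃ g ∈ τ.Z, g ≠ 1 ∧ g ≠ τ.S 0 1 ∧ ∃ n, n * n = 1 ∧
    n ∉ τ.B ∧ u = g * n) ?_ ?_ ⟨τ.S 0 t, τ.S_mem_Z t, fun e => h0 (τ.S_eq_one.1 e).2,
      fun e => h1 (τ.S_inj e).2, τ.T, τ.T_mul_T, τ.T_not_mem_B, rfl⟩
  · rintro ⟨g, hg, -, -, n, -, hn, e⟩
    exact hn (eq_inv_of_mul_eq_one_right e.symm ▸ inv_mem (τ.U_le_B (τ.Z_le_U hg)))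
  · rintro _ ⟨g, hg, h2, h3, n, hn, hB, rfl⟩
    have h4 := mul_mem hy hg
    have h5 : τ.S 0 1 * g ≠ 1 := fun e => h3 (by rw [eq_inv_of_mul_eq_one_right e, S_zero_inv])
    refine ⟨_, h4, h5, fun e => h2 (mul_eq_left.1 e), _, ?_, fun e => hB (mem_B_of_conj_mem
      (τ.Z_le_U hy) τ.S_zero_one_ne_one (mem_B_of_conj_mem (τ.Z_le_U h4) h5 e)),
      step_inv (τ.S_zero_mul_self 1) (mem_Z_iff.1 hg).2 hn (comm_of_mem_Z hy (τ.Z_le_U hg))⟩
    rw [conj_mul, (mem_Z_iff.1 h4).2, mul_one, mul_inv_cancel]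

theorem pow_four_of_not_tri (h : ¬ Tri τ.grp) {c u : τ.grp} (hc : c ∈ τ.fpfSet) (hu : u ∈ τ.U)
    (h1 : u ≠ 1) : (c * u) ^ 4 = 1 := by
  have key : ∀ u ∈ τ.U, ∀ α β : τ.Pt, (c * u) • α = α → (c * u) • β = β → α = β := by
    intro u hu α β ha hb
    by_contra hab
    obtain ⟨g, rfl, rfl⟩ := exists_smul_pair hab
    have h2 : g⁻¹ * (c * u) * g ∈ τ.H := mem_H_iff.2
      ⟨by rw [mul_smul, mul_smul, ha, inv_smul_smul], by rw [mul_smul, mul_smul, hb, inv_smul_smul]⟩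
    have h3 := Subgroup.orderOf_dvd_natCard _ h2
    rw [SemiconjBy.orderOf_eq g (y := c * u) (by simp [SemiconjBy, mul_assoc])] at h3
    have h4 := (coprime_card_B (τ := τ)).symm.coprime_dvd_left (orderOf_dvd_of_fpf hc)
    refine h ⟨c, u, (c * u)⁻¹, ne_one_of_fpf hc, fun e => hc _ (by simpa [e] using ha),
      fun e => hc .inf ?_, h4.coprime_dvd_right (Subgroup.orderOf_dvd_natCard _ (τ.U_le_B hu)),
      ?_, ?_, mul_inv_cancel _⟩
    · rw [eq_inv_of_mul_eq_one_left (inv_eq_one.1 e)]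
      exact mem_B.1 (inv_mem (τ.U_le_B hu))
    · rw [orderOf_inv]
      exact ((coprime_card_U_H (τ := τ)).coprime_dvd_left
        (Subgroup.orderOf_dvd_natCard _ hu)).coprime_dvd_right h3
    · rw [orderOf_inv]
      exact h4.coprime_dvd_right (orderOf_dvd_card_B ha)
  have hex : ∀ ω : τ.Pt, ∃ o : Option τ.U, (ω = .inf ∧ o = none) ∨ (ω = c • .inf ∧ o = some 1) ∨
      ∃ v : τ.U, o = some v ∧ (c * v) • ω = ω := fun ω => by
    rcases ω with _ | ⟨x, y⟩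
    · exact ⟨none, Or.inl ⟨rfl, rfl⟩⟩
    rcases e : c⁻¹ • (Pt.aff x y : τ.Pt) with _ | ⟨z, w⟩
    · exact ⟨some 1, Or.inr (Or.inl ⟨inv_smul_eq_iff.1 e, rfl⟩)⟩
    · refine ⟨some ⟨τ.S (z - x) (w - y - τ.θ (z - x) * x), τ.S_mem_U _ _⟩, Or.inr (Or.inr
        ⟨_, rfl, ?_⟩)⟩
      rw [mul_smul, ← eq_inv_smul_iff, e, S_smul_aff]
      congr 1 <;> ring
  choose f hf using hex
  have hi : Function.Injective f := fun α β e => by
    rcases hf α with ⟨rfl, a⟩ | ⟨rfl, a⟩ | ⟨v, a, a'⟩ <;>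
      rcases hf β with ⟨rfl, b⟩ | ⟨rfl, b⟩ | ⟨w, b, b'⟩ <;> try rfl
    all_goals rw [a, b] at e
    all_goals cases e
    · exact absurd (by simpa using b') (hc _)
    · exact absurd (by simpa using a') (hc _)
    · exact key _ v.2 _ _ a' b'
  obtain ⟨ω, e⟩ := (hi.bijective_of_nat_card_le (by
    rw [Finite.card_option, card_U, card_Pt])).2 (some ⟨u, hu⟩)
  rcases hf ω with ⟨-, a⟩ | ⟨-, a⟩ | ⟨v, a, a'⟩ <;> rw [a] at e
  · cases e
  · exact absurd (congrArg Subtype.val (Option.some.inj e)).symm h1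
  obtain rfl := Option.some.inj e
  rcases exists_conj_mem_U_or_H a' with ⟨x, hx⟩ | ⟨x, hx⟩
  · have := pow_four_of_mem_U hx
    rwa [← inv_inv x, inv_inv x⁻¹, conj_pow, conj_eq_one_iff] at this
  · obtain ⟨h2, h3⟩ := mem_H_iff.1 hx
    rw [mul_smul, mul_smul, inv_smul_eq_iff] at h2 h3
    cases MulAction.injective x (key u hu _ _ h2 h3)

theorem tri_sz (ht : ∃ t : F, t ≠ 0 ∧ t ≠ 1) : Tri τ.grp := by
  by_contra h
  have := isSimpleGroup_grp (τ := τ) ht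
  obtain ⟨p, hp, hd⟩ := Nat.exists_prime_and_dvd (n := Nat.card F ^ 2 + 1)
    (by have := Nat.card_pos (α := F); simp; omega)
  obtain ⟨A, hA, -⟩ := exists_isAniso_of_prime (τ := τ) hp hd
  obtain ⟨c, hc, h1⟩ := hA.selfCent.exists_ne_one
  have hcj : ∀ c ∈ τ.fpfSet, ∀ x : τ.grp, x * c * x⁻¹ ∈ τ.fpfSet := fun c hc x ω e =>
    hc (x⁻¹ • ω) (by rwa [mul_smul, mul_smul, ← eq_inv_smul_iff] at e)
  have key : ∀ c ∈ τ.fpfSet, ∀ u : τ.grp, u ≠ 1 ∧ u ^ 4 = 1 → c * u ≠ 1 ∧ (c * u) ^ 4 = 1 := by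
    rintro c hc u ⟨h2, h3⟩
    obtain ⟨x, hx⟩ := exists_conj_mem_U (n := 2) h3
    obtain ⟨ω, hω⟩ := exists_fixed_of_pow (n := 2) h3
    refine ⟨fun e => hc ω (by rw [eq_inv_of_mul_eq_one_left e, inv_smul_eq_iff, hω]), ?_⟩
    have := pow_four_of_not_tri h (hcj c hc x⁻¹) hx fun e => h2 (by
      rwa [← inv_inv x, inv_inv x⁻¹, conj_eq_one_iff] at e)
    rwa [← inv_inv x, inv_inv x⁻¹, conj_mul, conj_pow, conj_eq_one_iff] at this
  have h2 : normalClosure {c} = ⊤ := (IsSimpleGroup.eq_bot_or_eq_top_of_normal _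
    inferInstance).resolve_left fun e => h1 (mem_bot.1 (e ▸ subset_normalClosure rfl))
  have h3 : ∀ g ∈ normalClosure {c}, ∀ u : τ.grp, u ≠ 1 ∧ u ^ 4 = 1 →
      g * u ≠ 1 ∧ (g * u) ^ 4 = 1 := fun g hg => by
    have h4 : ∀ x ∈ Group.conjugatesOfSet {c}, x ∈ τ.fpfSet := fun x hx => by
      obtain ⟨z, hz, hx'⟩ := Group.mem_conjugatesOfSet_iff.1 hx
      obtain ⟨y, rfl⟩ := isConj_iff.1 hx'
      rw [Set.mem_singleton_iff.1 hz]
      exact hcj _ (hA.fpf _ hc h1) y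
    induction hg using closure_induction'' with
    | mem x hx => exact key x (h4 x hx)
    | inv_mem x hx => exact key _ fun ω e => h4 x hx ω (inv_smul_eq_iff.1 e).symm
    | one => simp
    | mul x y _ _ hx hy => exact fun u hu => mul_assoc x y u ▸ hx _ (hy u hu)
  exact (h3 (τ.S 0 1)⁻¹ (h2 ▸ mem_top _) _ ⟨τ.S_zero_one_ne_one, τ.S_pow_four 0 1⟩).1
    (inv_mul_cancel _)

theorem bad_tits {m : ℕ} (hm : 1 ≤ m) (hF : Nat.card F = 2 ^ (2 * m + 1)) : Bad τ.grp := by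
  have ht := exists_ne_zero_one' hm hF
  obtain ⟨x, hx, h1⟩ := (selfCent_H (τ := τ) ht).exists_ne_one
  obtain ⟨j, hp⟩ := exists_prime_pow' h1
  obtain ⟨k, hk⟩ := mem_H.1 (pow_mem hx j)
  rw [hk] at hp
  have ho : Odd (orderOf (τ.M k)) := (isTorus_H ht).odd_orderOf (τ.M_mem_H k)
  have h2 : orderOf (τ.M k) ≠ 2 := fun e => by rw [e] at ho; exact absurd ho (by decide)
  have h3 : τ.M k ≠ 1 := fun e => hp.ne_one (orderOf_eq_one_iff.2 e)
  have hT : orderOf τ.T = 2 := orderOf_eq_prime (by rw [pow_two, T_mul_T])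
    fun e => τ.T_not_mem_B (e ▸ one_mem _)
  have e1 : (τ.S 0 1 * τ.T * (τ.S 0 1)⁻¹) • (Pt.inf : τ.Pt) = .aff 0 1 := by
    simp [S_zero_inv, mul_smul]
  have e2 : (τ.S 0 1 * τ.T * (τ.S 0 1)⁻¹) • (Pt.aff 0 0 : τ.Pt) = .aff 1 1 := by
    have : τ.N 0 1 = 1 := by simp [N]
    simp [S_zero_inv, mul_smul, τ.T_smul_aff (this ▸ one_ne_zero), this]
  have hn : ¬ Group.IsSolvable (closure ({τ.M k, τ.S 0 1 * τ.T * (τ.S 0 1)⁻¹} : Set τ.grp)) := by
    rw [isSolvable_iff hm hF]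
    simp only [closure_le, Set.insert_subset_iff, Set.singleton_subset_iff, SetLike.mem_coe]
    rintro (⟨ω, h4, h5⟩ | ⟨A, hA, -, h4, h5⟩)
    · rcases ω with _ | ⟨x, y⟩
      · cases e1.symm.trans h5
      · obtain e | ⟨rfl, rfl⟩ := M_smul_aff_eq h4
        · exact h3 (τ.M_eq_one.2 e)
        · simpa using e2.symm.trans h5
    · rw [hA.selfCent.eq_of_mem (selfCent_H ht) (hA.mem_of_odd hm hF h4 ho) (τ.M_mem_H k) h3,
        mem_normalizer_H ht, mem_H_iff, mem_H_iff, e1, mul_smul τ.T, e1] at h5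
      rcases h5 with h | h
      · cases h.1
      · have h6 := h.1
        rw [← eq_inv_smul_iff, T_inv, T_smul_inf] at h6
        simp at h6
  have := τ.isCyclic_H
  exact ⟨tri_sz ht, gen_of_involution hp h2 (pow_one _).symm (by
      rw [SemiconjBy.orderOf_eq (τ.S 0 1)⁻¹ (y := τ.T) (by simp [SemiconjBy, mul_assoc]), hT]) hn,
    ⟨_, 2, τ.M k, τ.T, τ.S 0 1, hp, Nat.prime_two, h2, ⟨1, (pow_one _).symm⟩, ⟨1, hT⟩,
      solvable_of_norm (Group.isSolvable_of_comm mul_comm') (τ.M_mem_H k) T_mem_normalizer_H, hn⟩,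
    bww_sz ht⟩

theorem bad_sz {K : Type*} [Field K] [Fintype K] {m : ℕ} (hm : 1 ≤ m)
    (hF : Fintype.card K = 2 ^ (2 * m + 1)) : Bad (Cfsg.Lie.Sz K (2 ^ (m + 1))) :=
  (bad_tits hm (Nat.card_eq_fintype_card.trans hF)).of_injective (lieSzEquiv hF).toMonoidHom
    (lieSzEquiv hF).injective

theorem bww_of_conj {G : Type*} [Group G] {x y g : G} (h1 : x ≠ 1) (hg : g * y = y * g)
    (h : step y x = g * x * g⁻¹) : Bww G := by
  have key : ∀ n : ℕ, ∀ s, step y (g ^ n * s * (g ^ n)⁻¹) = g ^ n * step y s * (g ^ n)⁻¹ :=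
    fun n s => by
      have := map_step (MulAut.conj (g ^ n)).toMonoidHom y s
      simp only [MulEquiv.toMonoidHom_eq_coe, MonoidHom.coe_coe, MulAut.conj_apply] at this
      rw [this, ((Commute.pow_left hg n).eq), mul_inv_cancel_right]
  refine bww_of_invariant (x := x) y (fun s => ∃ n : ℕ, s = g ^ n * x * (g ^ n)⁻¹) ?_ ?_ ⟨0, by simp⟩
  · rintro ⟨n, e⟩
    exact h1 (conj_eq_one_iff.1 e.symm)
  · rintro _ ⟨n, rfl⟩
    exact ⟨n + 1, by rw [key, h]; group⟩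

/-- an element of `SL₃(3)` -/
def m3 (A : Matrix (Fin 3) (Fin 3) (ZMod 3)) (h : A.det = 1 := by decide) : SL(3, ZMod 3) := ⟨A, h⟩

theorem bww_sl33 : Bww SL(3, ZMod 3) :=
  bww_of_conj (x := m3 !![0, 1, 0; 1, 0, 0; 0, 2, 2]) (y := m3 !![0, 0, 1; 0, 2, 0; 1, 0, 0])
    (g := m3 !![0, 1, 1; 2, 1, 1; 1, 2, 0]) (by decide +kernel) (by decide +kernel)
    (by decide +kernel)

theorem bad_sl33 : Bad SL(3, ZMod 3) := by
  let a := m3 !![2, 0, 0; 0, 2, 0; 0, 0, 1]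
  let b := m3 !![0, 0, 1; 0, 2, 1; 1, 1, 1]
  let g := m3 !![0, 0, 1; 1, 2, 0; 0, 1, 1]
  let a' := m3 !![2, 2, 2; 0, 1, 2; 0, 0, 2]
  have : Fact (Nat.Prime 3) := ⟨by norm_num⟩
  have : Fact (Nat.Prime 13) := ⟨by norm_num⟩
  have ha : orderOf a = 2 := orderOf_eq_prime (by decide +kernel) (by decide +kernel)
  have ha' : orderOf a' = 2 := orderOf_eq_prime (by decide +kernel) (by decide +kernel)
  have hb : orderOf b = 3 := orderOf_eq_prime (by decide +kernel) (by decide +kernel)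
  have hc : orderOf (b * a) = 13 := orderOf_eq_prime (by decide +kernel) (by decide +kernel)
  have e : g * a' * g⁻¹ = a := mul_inv_eq_iff_eq_mul.2 (by decide +kernel)
  have e' : a' * b * a'⁻¹ = b⁻¹ := by
    rw [mul_inv_eq_iff_eq_mul, eq_inv_mul_iff_mul_eq]; decide +kernel
  have h := tri_gen (by norm_num) (by norm_num) hb ha (by rw [hc]; norm_num)
  refine ⟨h.1, h.2, ⟨3, 2, b, a', g, by norm_num, by norm_num, by norm_num, ⟨1, hb⟩, ⟨1, ha'⟩,
    solvable_of_norm (A := zpowers b) (Group.isSolvable_of_comm mul_comm') (mem_zpowers b) ?_,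
    e ▸ not_solvable_pair (by decide +kernel) (by rw [ha, hb]; norm_num)
      (by rw [ha, hc]; norm_num) (by rw [hb, hc]; norm_num)⟩, bww_sl33⟩
  apply mem_normalizer_fintype
  rintro _ ⟨k, rfl⟩
  exact ⟨-k, by simp only [← conj_zpow, e', inv_zpow']⟩

theorem bad_l33 {K : Type*} [Field K] [Fintype K] (h : Fintype.card K = 3) : Bad PSL(3, K) := by
  have e := Classical.pslMapEquiv (ι := Fin 3) (ZMod.ringEquivOfPrime K (by norm_num) h)
  refine (bad_sl33.of_injective (QuotientGroup.mk' _) ?_).of_injective e.toMonoidHom e.injective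
  rw [← MonoidHom.ker_eq_bot_iff, QuotientGroup.ker_mk', eq_bot_iff]
  intro A hA
  obtain ⟨r, hr, e⟩ := Matrix.SpecialLinearGroup.mem_center_iff.1 hA
  have h3 : ∀ r : ZMod 3, r ^ 3 = 1 → r = 1 := by decide
  obtain rfl := h3 r (by simpa using hr)
  exact Subtype.ext (by simpa using e.symm)

end CfsgLib.MinC
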