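import Mathlib
import Cfsg.Agent.Lib.MinC.Sz
import Cfsg.Agent.Lib.MinS.TopDefs

/-! Consequences of the list of minimal simple groups: element configurations in non-solvable
groups. -/

set_option autoImplicit false

namespace CfsgLib.MinC

open Subgroup Cfsg CfsgLib.MinS

universe u

theorem bad_of_isoL2 {G : Type*} [Group G] {n : ℕ} (h : IsoL2 G n) (hn : 4 ≤ n) : Bad G := by
  obtain ⟨F, _, _, rfl, ⟨e⟩⟩ := h
  exact (bad_psl hn).of_injective e.symm.toMonoidHom e.symm.injective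

theorem four_le_two_pow {p : ℕ} (hp : p.Prime) : 4 ≤ 2 ^ p :=
  Nat.pow_le_pow_right (n := 2) (by norm_num) hp.two_le

theorem four_le_three_pow {p : ℕ} (hp : p.Prime) : 4 ≤ 3 ^ p :=
  le_trans (by norm_num) (Nat.pow_le_pow_right (n := 3) (by norm_num) hp.two_le)

theorem bad_of_minList {G : Type*} [Group G] (h : MinList G) : Bad G := by
  rcases h with ⟨p, hp, h⟩ | ⟨p, hp, -, h⟩ | ⟨p, -, hp, h⟩ | ⟨F, _, _, h, ⟨e⟩⟩ |
    ⟨p, -, F, _, _, m, hm, -, h, ⟨e⟩⟩
  · exact bad_of_isoL2 h (four_le_two_pow hp)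
  · exact bad_of_isoL2 h (four_le_three_pow hp)
  · exact bad_of_isoL2 h (by omega)
  · exact (bad_l33 h).of_injective e.symm.toMonoidHom e.symm.injective
  · exact (bad_sz hm h).of_injective e.symm.toMonoidHom e.symm.injective

theorem bad_of_not_solvable (hM : MinSt.{u}) {G : Type u} [Group G] [Finite G]
    (hG : ¬ Group.IsSolvable G) : Bad G :=
  bad_of_min (fun G _ _ h => bad_of_minList (hM G h)) G hG

/-- an element is a product of elements of prime power order for distinct primes -/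
theorem exists_list_parts {G : Type*} [Group G] [Finite G] (a : G) :
    ∃ L : List (ℕ × G), (L.map Prod.fst).Nodup ∧
      (∀ x ∈ L, x.1.Prime ∧ x.1 ∣ orderOf a ∧ ∃ k, x.2 ^ x.1 ^ k = 1) ∧
      (L.map Prod.snd).prod = a := by
  induction hn : orderOf a using Nat.strong_induction_on generalizing a with
  | _ n ih =>
  subst hn
  by_cases h1 : orderOf a = 1
  · exact ⟨[], by simp, by simp, by simpa using (orderOf_eq_one_iff.1 h1).symm⟩
  obtain ⟨p, hp, hd⟩ := Nat.exists_prime_and_dvd h1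
  obtain ⟨k, m, hm, e⟩ := Nat.exists_eq_pow_mul_and_not_dvd (orderOf_pos a).ne' p hp.ne_one
  have hc : Nat.Coprime m (p ^ k) := ((Nat.Prime.coprime_iff_not_dvd hp).2 hm).symm.pow_right k
  obtain ⟨u, v, huv⟩ := Nat.isCoprime_iff_coprime.2 hc
  have h2 : orderOf (a ^ (v * (p ^ k : ℕ) : ℤ)) ∣ m := orderOf_dvd_of_pow_eq_one (by
    rw [← zpow_natCast, ← zpow_mul, mul_assoc, ← Nat.cast_mul, ← e, mul_comm, zpow_mul,
      zpow_natCast, pow_orderOf_eq_one, one_zpow])
  have h3 : m ∣ orderOf a := e ▸ Dvd.intro_left _ rfl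
  have h4 : m < orderOf a := lt_of_le_of_ne (Nat.le_of_dvd (orderOf_pos a) h3)
    fun e' => hm (e' ▸ hd)
  obtain ⟨L, a1, a2, a3⟩ := ih _ (lt_of_le_of_lt (Nat.le_of_dvd (Nat.pos_of_ne_zero fun e' => by
    simp [e'] at hm) h2) h4) _ rfl
  refine ⟨(p, a ^ (u * m : ℤ)) :: L, List.nodup_cons.2 ⟨fun h => ?_, a1⟩, ?_, ?_⟩
  · obtain ⟨x, hx, rfl⟩ := List.mem_map.1 h
    exact hm ((a2 x hx).2.1.trans h2)
  · rintro x (_ | ⟨_, hx⟩)
    · refine ⟨hp, hd, k, ?_⟩
      rw [← zpow_natCast, ← zpow_mul, mul_assoc, ← Nat.cast_mul, mul_comm m, ← e, mul_comm,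
        zpow_mul, zpow_natCast, pow_orderOf_eq_one, one_zpow]
    · exact ⟨(a2 x hx).1, (a2 x hx).2.1.trans (h2.trans h3), (a2 x hx).2.2⟩
  · rw [List.map_cons, List.prod_cons, a3, ← zpow_add, huv, zpow_one]

/-- if all complete Sylow products are the whole group then the factorisations are unique -/
theorem eq_one_of_sylow_prod {G : Type*} [Group G] [Finite G]
    (h : ∀ (t : ℕ) (p : Fin t → ℕ), (∀ i, (p i).Prime) → Function.Injective p →
      (∀ q : ℕ, q.Prime → q ∣ Nat.card G → ∃ i, p i = q) →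
      ∀ (S : (i : Fin t) → Sylow (p i) G) (g : G), ∃ s : (i : Fin t) → G,
        (∀ i, s i ∈ (S i : Subgroup G)) ∧ g = (List.ofFn s).prod)
    (L : List (ℕ × G)) (h1 : (L.map Prod.fst).Nodup)
    (h2 : ∀ x ∈ L, x.1.Prime ∧ ∃ k, x.2 ^ x.1 ^ k = 1) (h3 : (L.map Prod.snd).prod = 1) :
    ∀ x ∈ L, x.2 = 1 := by
  classical
  obtain ⟨M, m1, m2, m3, m4, m5⟩ : ∃ M : List (ℕ × G), (M.map Prod.fst).Nodup ∧
      (∀ x ∈ M, x.1.Prime ∧ ∃ k, x.2 ^ x.1 ^ k = 1) ∧ (M.map Prod.snd).prod = 1 ∧ L ⊆ M ∧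
      ∀ q : ℕ, q.Prime → q ∣ Nat.card G → q ∈ M.map Prod.fst := by
    refine ⟨L ++ ((Nat.card G).primeFactorsList.dedup.filter (· ∉ L.map Prod.fst)).map (·, 1),
      ?_, ?_, ?_, List.subset_append_left _ _, fun q hq hd => ?_⟩
    · rw [List.map_append, List.map_map, List.nodup_append]
      refine ⟨h1, ?_, ?_⟩
      · simpa [Function.comp_def] using (List.nodup_dedup _).filter _
      · rintro a ha b hb rfl
        simp only [Function.comp_def, List.map_id', List.mem_filter, decide_eq_true_eq] at hb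
        exact hb.2 ha
    · intro x hx
      rcases List.mem_append.1 hx with hx | hx
      · exact h2 x hx
      · obtain ⟨q, hq, rfl⟩ := List.mem_map.1 hx
        exact ⟨Nat.prime_of_mem_primeFactorsList (List.mem_dedup.1 (List.mem_filter.1 hq).1),
          0, by simp⟩
    · simp [h3, Function.comp_def]
    · by_cases hL : q ∈ L.map Prod.fst
      · rw [List.map_append]; exact List.mem_append_left _ hL
      · rw [List.map_append]
        refine List.mem_append_right _ (List.mem_map.2 ⟨(q, 1), List.mem_map.2 ⟨q,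
          List.mem_filter.2 ⟨List.mem_dedup.2 ((Nat.mem_primeFactorsList Nat.card_pos.ne').2
            ⟨hq, hd⟩), by simpa using hL⟩, rfl⟩, rfl⟩)
  have hp : ∀ i : Fin M.length, (M.get i).1.Prime := fun i => (m2 _ (List.get_mem M i)).1
  have hi : Function.Injective fun i : Fin M.length => (M.get i).1 := fun i j e => by
    have := (List.nodup_iff_injective_getElem.1 m1) (a₁ := ⟨i, by simp⟩) (a₂ := ⟨j, by simp⟩)
      (by simpa using e)
    exact Fin.ext (by simpa using this)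
  have hS : ∀ i : Fin M.length, ∃ S : Sylow (M.get i).1 G, (M.get i).2 ∈ (S : Subgroup G) :=
    fun i => by
      obtain ⟨k, hk⟩ := (m2 _ (List.get_mem M i)).2
      have := Fact.mk (hp i)
      obtain ⟨S, hS⟩ := IsPGroup.exists_le_sylow (p := (M.get i).1) (P := zpowers (M.get i).2)
        (by
          rintro ⟨_, z, rfl⟩
          exact ⟨k, Subtype.ext (by
            change ((M.get i).2 ^ z) ^ _ = 1
            rw [← zpow_natCast, ← zpow_mul, mul_comm, zpow_mul, zpow_natCast, hk, one_zpow])⟩)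
      exact ⟨S, hS (mem_zpowers _)⟩
  choose S hS using hS
  let f : ((i : Fin M.length) → (S i : Subgroup G)) → G := fun s => (List.ofFn fun i => (s i : G)).prod
  have hf : Function.Surjective f := fun g => by
    obtain ⟨s, hs, e⟩ := h _ _ hp hi (fun q hq hd => by
      obtain ⟨x, hx, rfl⟩ := List.mem_map.1 (m5 q hq hd)
      obtain ⟨i, rfl⟩ := List.get_of_mem hx
      exact ⟨i, rfl⟩) S g
    exact ⟨fun i => ⟨s i, hs i⟩, e.symm⟩
  have hc : Nat.card ((i : Fin M.length) → (S i : Subgroup G)) ≤ Nat.card G := by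
    rw [Nat.card_pi]
    refine Nat.le_of_dvd Nat.card_pos (Finset.prod_dvd_of_isRelPrime (fun i _ j _ hij => ?_)
      fun i _ => card_subgroup_dvd_card _)
    have := Fact.mk (hp i)
    have := Fact.mk (hp j)
    exact Nat.coprime_iff_isRelPrime.1 (IsPGroup.coprime_card_of_ne _ _ (hi.ne hij) _ _
      (S i).isPGroup' (S j).isPGroup')
  have e := (hf.bijective_of_nat_card_le hc).1 (a₁ := fun i => ⟨_, hS i⟩) (a₂ := 1) (by
    have : (List.ofFn fun i => (M.get i).2) = M.map Prod.snd := by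
      conv_rhs => rw [← List.ofFn_get M, List.map_ofFn]
      rfl
    simp only [f, this, m3]
    simp)
  intro x hx
  obtain ⟨i, rfl⟩ := List.get_of_mem (m4 hx)
  exact congrArg Subtype.val (congrFun e i)

theorem not_tri_of_sylow_prod {G : Type*} [Group G] [Finite G]
    (h : ∀ (t : ℕ) (p : Fin t → ℕ), (∀ i, (p i).Prime) → Function.Injective p →
      (∀ q : ℕ, q.Prime → q ∣ Nat.card G → ∃ i, p i = q) →
      ∀ (S : (i : Fin t) → Sylow (p i) G) (g : G), ∃ s : (i : Fin t) → G,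
        (∀ i, s i ∈ (S i : Subgroup G)) ∧ g = (List.ofFn s).prod) : ¬ Tri G := by
  rintro ⟨a, b, c, ha, -, -, h1, h2, h3, e⟩
  obtain ⟨A, a1, a2, a3⟩ := exists_list_parts a
  obtain ⟨B, b1, b2, b3⟩ := exists_list_parts b
  obtain ⟨C, c1, c2, c3⟩ := exists_list_parts c
  have key : ∀ {x y : G} {X Y : List (ℕ × G)}, (orderOf x).Coprime (orderOf y) →
      (∀ z ∈ X, z.1.Prime ∧ z.1 ∣ orderOf x ∧ ∃ k, z.2 ^ z.1 ^ k = 1) →
      (∀ z ∈ Y, z.1.Prime ∧ z.1 ∣ orderOf y ∧ ∃ k, z.2 ^ z.1 ^ k = 1) →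
      ∀ p ∈ X.map Prod.fst, ∀ q ∈ Y.map Prod.fst, p ≠ q := by
    rintro x y X Y hc hX hY _ hp _ hq rfl
    obtain ⟨z, hz, rfl⟩ := List.mem_map.1 hp
    obtain ⟨w, hw, e⟩ := List.mem_map.1 hq
    exact (hX z hz).1.ne_one (Nat.eq_one_of_dvd_coprimes hc (hX z hz).2.1 (e ▸ (hY w hw).2.1))
  have := eq_one_of_sylow_prod h (A ++ (B ++ C)) (by
    rw [List.map_append, List.map_append, List.nodup_append, List.nodup_append]
    refine ⟨a1, ⟨b1, c1, key h2 b2 c2⟩, fun p hp q hq => ?_⟩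
    rcases List.mem_append.1 hq with hq | hq
    exacts [key h1 a2 b2 p hp q hq, key h3 a2 c2 p hp q hq]) (fun x hx => by
      rcases List.mem_append.1 hx with hx | hx
      · exact ⟨(a2 x hx).1, (a2 x hx).2.2⟩
      rcases List.mem_append.1 hx with hx | hx
      exacts [⟨(b2 x hx).1, (b2 x hx).2.2⟩, ⟨(c2 x hx).1, (c2 x hx).2.2⟩]) (by
    rw [List.map_append, List.map_append, List.prod_append, List.prod_append, a3, b3, c3,
      ← mul_assoc, e])
  refine ha (a3 ▸ List.prod_eq_one fun x hx => ?_)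
  obtain ⟨z, hz, rfl⟩ := List.mem_map.1 hx
  exact this z (List.mem_append_left _ hz)

variable {G : Type u} [Group G] [Finite G]

theorem s0490 (hM : MinSt.{u}) : ¬ Group.IsSolvable G ↔ Tri G :=
  ⟨fun h => (bad_of_not_solvable hM h).tri, Tri.not_solvable⟩

theorem s4393 (hM : MinSt.{u})
    (h : ∀ (t : ℕ) (p : Fin t → ℕ), (∀ i, (p i).Prime) → Function.Injective p →
      (∀ q : ℕ, q.Prime → q ∣ Nat.card G → ∃ i, p i = q) →
      ∀ (S : (i : Fin t) → Sylow (p i) G) (g : G), ∃ s : (i : Fin t) → G,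
        (∀ i, s i ∈ (S i : Subgroup G)) ∧ g = (List.ofFn s).prod) : Group.IsSolvable G :=
  by_contra fun hG => not_tri_of_sylow_prod h (bad_of_not_solvable hM hG).tri

theorem s4103 (hM : MinSt.{u}) : Group.IsSolvable G ↔ ∀ x y : G,
    (∃ p k : ℕ, p.Prime ∧ p ≠ 2 ∧ orderOf x = p ^ k) → (∃ k : ℕ, orderOf y = 2 ^ k) →
      Group.IsSolvable (Subgroup.closure ({x, y * x * y⁻¹} : Set G)) :=
  ⟨fun _ _ _ _ _ => inferInstance, fun h => by_contra fun hG => by
    obtain ⟨x, y, h1, h2, h3⟩ := (bad_of_not_solvable hM hG).gen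
    exact h3 (h x y h1 h2)⟩

theorem s3843 (hM : MinSt.{u}) : Group.IsSolvable G ↔ ∀ p q : ℕ, p.Prime → q.Prime → p ≠ q →
    ∀ x y : G, (∃ k : ℕ, orderOf x = p ^ k) → (∃ k : ℕ, orderOf y = q ^ k) →
      Group.IsSolvable ↥(Subgroup.closure ({x, y} : Set G)) →
      ∀ g : G, Group.IsSolvable ↥(Subgroup.closure ({x, g * y * g⁻¹} : Set G)) :=
  ⟨fun _ _ _ _ _ _ _ _ _ _ _ _ => inferInstance, fun h => by_contra fun hG => by
    obtain ⟨p, q, x, y, g, h1, h2, h3, h4, h5, h6, h7⟩ := (bad_of_not_solvable hM hG).cnj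
    exact h7 (h p q h1 h2 h3 x y h4 h5 h6 g)⟩

theorem s3936 (hM : MinSt.{u}) : Group.IsSolvable G ↔ ∃ n : ℕ, ∀ x y : G, seq x y n = 1 :=
  ⟨fun ⟨n, h⟩ => ⟨n, fun x y => mem_bot.1 (h ▸ seq_mem x y n)⟩, fun ⟨n, h⟩ =>
    by_contra fun hG => by
      obtain ⟨x, y, e⟩ := (bad_of_not_solvable hM hG).bww
      exact e n (h x y)⟩

end CfsgLib.MinC
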